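import Cfsg.Agent.H904.PV.TwoZero
import Cfsg.Agent.H541.VanSzRee
import Cfsg.Agent.H620.PNorm

/-!
# S4555 + S4559, the Suzuki groups and the small Ree groups (helper904)

* `kill_sz` : every odd prime; `kill_ree` : every prime `p ≠ 3`;
* `sz_vOrdP`, `sz_vPow`, `ree_vOrdP`, `ree_vPow` : the rows.
-/

set_option autoImplicit false

open scoped ComplexConjugate

namespace Cfsg.Agent.H904.SzRee

open Cfsg Cfsg.Agent.H620 Subgroup
open Cfsg.Agent.H620.PNorm (VOrdP VPow)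
open Cfsg.Agent.LieRecognition
open Cfsg.Agent.LieRecognition.ReeAbs Cfsg.Agent.LieRecognition.ReeSylowThree
  Cfsg.Agent.LieRecognition.ReeSplit

universe u

/-- the Suzuki groups: every odd prime -/
theorem kill_sz {K : Type u} [Group K] [Finite K] {p : ℕ} [hp : Fact p.Prime] (hp2 : p ≠ 2)
    (h : Lie.IsoSuzuki K) : Kill K p := by
  obtain ⟨F, iF, iF', m, hm, hF, ⟨f⟩⟩ := h
  have hcard := Cfsg.Agent.H438.SzMax.card_sz hF
  rw [← Nat.card_congr f.toEquiv] at hcard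
  have hq : 2 ^ (2 * m + 1) = 8 * (2 ^ (m - 1)) ^ 2 := by
    obtain ⟨c, rfl⟩ : ∃ c, m = c + 1 := ⟨m - 1, by omega⟩
    rw [Nat.add_sub_cancel]
    ring
  have hk1 : 1 ≤ 2 ^ (m - 1) := Nat.one_le_pow _ _ (by norm_num)
  have hp2 : ¬ p ∣ 2 ^ (2 * m + 1) := by
    intro h
    have := Cfsg.Agent.H678.SuzGraph.prime_dvd_two_pow hp.out h
    omega
  have hmem := Cfsg.Agent.H678.SuzGraph.mem_charDegrees hm hF (S := K) ⟨f⟩ (2 ^ (m - 1))
    (8 * (2 ^ (m - 1)) ^ 2 - 1) (8 * (2 ^ (m - 1)) ^ 2 + 4 * 2 ^ (m - 1) + 1)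
    (8 * (2 ^ (m - 1)) ^ 2 + 1 - 4 * 2 ^ (m - 1)) rfl (by
      have : 1 ≤ (2 ^ (m - 1)) ^ 2 := Nat.one_le_pow _ _ hk1
      omega) rfl (by
      have : 2 ^ (m - 1) ≤ (2 ^ (m - 1)) ^ 2 := Nat.le_self_pow (by norm_num) _
      omega)
  rw [hq] at hcard hp2
  clear hF hq f
  generalize 2 ^ (m - 1) = k at *
  have hk2 : 1 ≤ 8 * k ^ 2 := by
    have : 1 ≤ k ^ 2 := Nat.one_le_pow _ _ hk1
    omega
  have h64 : (8 * k ^ 2) ^ 2 = 64 * k ^ 4 := by ring
  by_cases hA : p ∣ (8 * k ^ 2) ^ 2 + 1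
  · refine Cfsg.Agent.H541.VanSzRee.kill_of_deg (d := 64 * k ^ 4 + 1) ((hmem _).2 (by tauto)) hcard ?_ (by rw [h64])
    intro h
    rcases hp.out.dvd_mul.1 h with h | h
    · exact hp2 (hp.out.dvd_of_dvd_pow h)
    · have h2 : (8 * k ^ 2) ^ 2 + 1 = (8 * k ^ 2 - 1) * (8 * k ^ 2 + 1) + 2 := by
        obtain ⟨c, hc⟩ : ∃ c, 8 * k ^ 2 = c + 1 := ⟨8 * k ^ 2 - 1, by omega⟩
        rw [hc, Nat.add_sub_cancel]
        ring
      rw [h2] at hA
      have h3 := (Nat.dvd_add_right (dvd_mul_of_dvd_left h _)).1 hA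
      have h4 := (Nat.prime_dvd_prime_iff_eq hp.out Nat.prime_two).1 h3
      exact hp2 (by rw [h4]; exact Dvd.intro (4 * k ^ 2) (by ring))
  · have hcard' : Nat.card K = ((8 * k ^ 2) ^ 2 * ((8 * k ^ 2) ^ 2 + 1)) * (8 * k ^ 2 - 1) := by
      rw [hcard]; ring
    refine Cfsg.Agent.H541.VanSzRee.kill_of_deg (d := (8 * k ^ 2 - 1) * (8 * k ^ 2 + 4 * k + 1)) ((hmem _).2 (by tauto))
      hcard' ?_ (dvd_mul_right _ _)
    intro h
    rcases hp.out.dvd_mul.1 h with h | h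
    · exact hp2 (hp.out.dvd_of_dvd_pow h)
    · exact hA h

/-- the small Ree groups: `p ≥ 5` -/
theorem kill_ree {K : Type u} [Group K] [Finite K] {p : ℕ} [hp : Fact p.Prime] (hp5 : 5 ≤ p)
    (h : Lie.IsoRee K) : Kill K p := by
  obtain ⟨m', hm', hF', hc⟩ := Cfsg.Agent.H732.DegRee.facts_of_iso h
  have hp3 : ¬ p ∣ (3 ^ (2 * m' + 1)) := by
    intro h
    have := (Nat.prime_dvd_prime_iff_eq hp.out Nat.prime_three).1 (hp.out.dvd_of_dvd_pow h)
    omega
  have hodd : 3 ^ (2 * m' + 1) % 2 = 1 := by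
    rw [Nat.pow_mod]; norm_num
  have h1 : 3 ≤ 3 ^ (2 * m' + 1) := Nat.le_self_pow (by omega) 3
  generalize 3 ^ (2 * m' + 1) = q at *
  obtain ⟨c, rfl⟩ : ∃ c, q = c + 1 := ⟨q - 1, by omega⟩
  rw [Nat.add_sub_cancel] at hc
  by_cases hA : p ∣ (c + 1) ^ 3 + 1
  · refine Cfsg.Agent.H541.VanSzRee.kill_of_deg hF'.ps hc ?_ dvd_rfl
    intro h
    rcases hp.out.dvd_mul.1 h with h | h
    · exact hp3 (hp.out.dvd_of_dvd_pow h)
    · have h2 : (c + 1) ^ 3 + 1 = c * (c ^ 2 + 3 * c + 3) + 2 := by ring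
      rw [h2] at hA
      have h3 := (Nat.dvd_add_right (dvd_mul_of_dvd_left h _)).1 hA
      have := Nat.le_of_dvd (by norm_num) h3
      omega
  · obtain ⟨d, hd1, hd2⟩ := hF'.cusp
    rw [Nat.add_sub_cancel] at hd2
    have hc' : Nat.card K = (2 * ((c + 1) ^ 3 * ((c + 1) ^ 3 + 1))) * (c / 2) := by
      obtain ⟨e, rfl⟩ : ∃ e, c = 2 * e := ⟨c / 2, by omega⟩
      rw [hc, Nat.mul_div_cancel_left _ (by norm_num)]
      ring
    refine Cfsg.Agent.H541.VanSzRee.kill_of_deg hd1 hc' ?_ (Dvd.dvd.trans (dvd_mul_left _ _) hd2)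
    intro h
    rcases hp.out.dvd_mul.1 h with h | h
    · have := Nat.le_of_dvd (by norm_num) h
      omega
    · rcases hp.out.dvd_mul.1 h with h | h
      · exact hp3 (hp.out.dvd_of_dvd_pow h)
      · exact hA h

section ree

variable {K : Type*} [Field K] [Fintype K] {G : Type*} [Group G] [Finite G] {m : ℕ}
  {U : K → K → K → G} {h : Kˣ → G} {n : G}

/-- the centraliser of a central element of a Sylow `3`-subgroup has odd order -/
theorem odd_cent (D : ReeAbs.Data m U h n) (hK : Fintype.card K = 3 ^ (2 * m + 1)) :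
    Odd (Nat.card (centralizer ({U 0 0 1} : Set G))) := by
  by_contra hodd
  rw [Nat.not_odd_iff_even, even_iff_two_dvd] at hodd
  have : Fact (Nat.Prime 2) := ⟨Nat.prime_two⟩
  obtain ⟨⟨s, hs⟩, hs2⟩ := exists_prime_orderOf_dvd_card' 2 hodd
  have hs1 : s ≠ 1 := by
    rintro rfl
    have h1 : (⟨1, hs⟩ : centralizer ({U 0 0 1} : Set G)) = 1 := rfl
    rw [h1, orderOf_one] at hs2
    omega
  have hss : s * s = 1 := by
    have h1 := pow_orderOf_eq_one (⟨s, hs⟩ : centralizer ({U 0 0 1} : Set G))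
    rw [hs2, pow_two] at h1
    exact congrArg Subtype.val h1
  have hc : s * U 0 0 1 = U 0 0 1 * s := mem_centralizer_singleton_iff.1 hs
  have h3 : CharP K 3 := ReeAbs.charP_three hK
  have h30 : (3 : K) = 0 := by exact_mod_cast CharP.cast_eq_zero K 3
  have hx1 : U 0 0 1 ≠ (1 : G) := by
    intro h0
    have h1 : U 0 0 1 * h 1 = U 0 0 0 * h 1 := by rw [h0, D.U_zero]
    exact one_ne_zero (D.inj₁ _ _ _ _ _ _ _ _ h1).2.2.1
  have hB : s ∈ bSub D := by
    refine mem_bSub_of_conj D (x := U 0 0 1) (y := U 0 0 1) ⟨0, 0, 1, rfl⟩ ⟨0, 0, 1, rfl⟩ hx1 hc.symm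
  obtain ⟨t, u, v, a, rfl⟩ := (mem_bSub D).1 hB
  -- `a ^ 2 = 1`
  have ha : a * a = 1 := by
    have e1 : U t u v * h a * (U t u v * h a) = U t u v * (h a * U t u v) * h a := by group
    rw [e1, D.h_U, ← mul_assoc, D.U_mul, mul_assoc, ← D.h_mul] at hss
    have e2 : (1 : G) = U 0 0 0 * h 1 := by rw [D.U_zero, D.h_one, one_mul]
    rw [e2] at hss
    exact (D.inj₁ _ _ _ _ _ _ _ _ hss).2.2.2
  have ha' : (a : K) * a = 1 := by
    have := congrArg Units.val ha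
    simpa using this
  rcases mul_self_eq_one_iff.1 ha' with ha1 | ha1
  · -- `s ∈ U`
    have ha2 : a = 1 := Units.ext ha1
    have hsU : U t u v * h a ∈ uSub D := ⟨t, u, v, by rw [ha2, D.h_one, mul_one]⟩
    have hP := H732.DegRee.isPGroup D hK
    obtain ⟨k, hk⟩ := hP ⟨_, hsU⟩
    have hk' : (U t u v * h a) ^ 3 ^ k = 1 := congrArg Subtype.val hk
    have e1 : orderOf (U t u v * h a) = 2 := orderOf_eq_prime (by rw [pow_two, hss]) hs1
    have e2 := orderOf_dvd_of_pow_eq_one hk'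
    rw [e1] at e2
    have := Nat.Prime.eq_one_or_self_of_dvd Nat.prime_three 2 (Nat.prime_two.dvd_of_dvd_pow e2)
    omega
  · have e1 : U t u v * h a * U 0 0 1 = U t u v * (h a * U 0 0 1) := by group
    have e0 : U 0 0 1 * (U t u v * h a) = U 0 0 1 * U t u v * h a := by group
    rw [e1, D.h_U, ← mul_assoc, D.U_mul, e0, D.U_mul] at hc
    have e2 := (D.inj₁ _ _ _ _ _ _ _ _ hc).2.2.1
    rw [ha1] at e2
    have e3 : ((-1 : K)) ^ (2 * 3 ^ (m + 1) + 3) = -1 := by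
      apply Odd.neg_one_pow
      exact ⟨3 ^ (m + 1) + 1, by ring⟩
    rw [e3] at e2
    have e4 : (2 : K) = 0 := by
      simp only [mul_zero, zero_mul, mul_one, sub_zero, add_zero, zero_pow (show 3 ^ (m + 1) ≠ 0 by positivity)] at e2
      linear_combination -e2
    have e5 : (1 : K) = 0 := by linear_combination h30 - e4
    exact one_ne_zero e5

/-- **A character of degree divisible by `8`.** -/
theorem ree_div (D : ReeAbs.Data m U h n) (hK : Fintype.card K = 3 ^ (2 * m + 1))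
    (hG : commutator G = ⊤) : ∃ (χ : IrrCharacter G) (d : ℕ), (χ : G → ℂ) 1 = d ∧ 8 ∣ d := by
  have : CharP K 3 := ReeAbs.charP_three hK
  have Dl := ReeSetup.local_of_data D hK
  obtain ⟨f, t₀, S⟩ := ReeSetup.exists_setup D hK hG Dl
  have ar := ReeClass.arith m
  have h8 := ar.q8
  have ht1 : h (-1) ≠ 1 := D.inv_ne_one hK
  have htt : h (-1) * h (-1) = 1 := D.inv_sq
  have hconj : ∀ s : G, IsConj (h (-1)) s ↔ s ≠ 1 ∧ s * s = 1 := by
    intro s
    constructor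
    · intro hs
      obtain ⟨g, rfl⟩ := isConj_iff.1 hs
      refine ⟨fun h0 => ht1 (conj_eq_one_iff.1 h0), ?_⟩
      have e1 : g * h (-1) * g⁻¹ * (g * h (-1) * g⁻¹) = g * (h (-1) * h (-1)) * g⁻¹ := by group
      rw [e1, htt, mul_one, mul_inv_cancel]
    · rintro ⟨h1, h2⟩
      exact isConj_iff.2 (S.conjG s h1 h2)
  have hx1 : U 0 0 1 ≠ (1 : G) := by
    intro h0
    have h1 : U 0 0 1 * h 1 = U 0 0 0 * h 1 := by rw [h0, D.U_zero]
    exact one_ne_zero (D.inj₁ _ _ _ _ _ _ _ _ h1).2.2.1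
  have h3 : CharP K 3 := ReeAbs.charP_three hK
  have h30 : (3 : K) = 0 := by exact_mod_cast CharP.cast_eq_zero K 3
  have hpz : (0 : K) ^ (3 ^ (m + 1)) = 0 := zero_pow (by positivity)
  have hUU : ∀ a b : K, U 0 0 a * U 0 0 b = U 0 0 (a + b) := by
    intro a b
    rw [D.U_mul]
    congr 1 <;> simp [hpz]
  have hxx : U 0 0 1 * U 0 0 1 ≠ (1 : G) := by
    rw [hUU]
    intro h0
    have h1 : U 0 0 (1 + 1) * h 1 = U 0 0 0 * h 1 := by rw [h0, D.U_zero]
    have h2 := (D.inj₁ _ _ _ _ _ _ _ _ h1).2.2.1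
    exact one_ne_zero (show (1 : K) = 0 by linear_combination h30 - h2)
  have hinv : (U 0 0 1)⁻¹ = (U 0 0 (-1) : G) := by
    rw [inv_eq_iff_mul_eq_one, hUU, add_neg_cancel, D.U_zero]
  have htx : h (-1) * U 0 0 1 * (h (-1))⁻¹ = (U 0 0 1)⁻¹ := by
    rw [D.h_U, mul_inv_cancel_right, hinv]
    have e3 : ((-1 : K)) ^ (2 * 3 ^ (m + 1) + 3) = -1 := by
      apply Odd.neg_one_pow
      exact ⟨3 ^ (m + 1) + 1, by ring⟩
    congr 1 <;> simp [e3]
  obtain ⟨P⟩ : Nonempty (Sylow 2 G) := inferInstance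
  have hP := (D.sylow_two hK Dl.card_G P)
  have hc1 : Nat.card (centralizer ({h (-1)} : Set G)) = 3 ^ (2 * m + 1) * ((3 ^ (2 * m + 1)) ^ 2 - 1) :=
    ReeClass.card_centralizer S
  have hcG := Dl.card_G
  have hidx : (centralizer ({h (-1)} : Set G)).index % 8 = 7 := by
    have h4 := (centralizer ({h (-1)} : Set G)).card_mul_index
    rw [hc1, hcG] at h4
    generalize (centralizer ({h (-1)} : Set G)).index = i at *
    generalize 3 ^ (2 * m + 1) = q at *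
    obtain ⟨c, rfl⟩ : ∃ c, q = c + 1 := ⟨q - 1, by omega⟩
    have e1 : (c + 1) ^ 2 - 1 = c * (c + 2) := by
      have : (c + 1) ^ 2 = c * (c + 2) + 1 := by ring
      omega
    rw [e1, Nat.add_sub_cancel] at h4
    have hc0 : 0 < c := by omega
    have h5 : i = (c + 1) ^ 2 * (c ^ 2 + c + 1) := by
      have h6 : ((c + 1) * (c * (c + 2))) * i = ((c + 1) * (c * (c + 2))) * ((c + 1) ^ 2 * (c ^ 2 + c + 1)) := by
        rw [h4]
        ring
      exact Nat.eq_of_mul_eq_mul_left (by positivity) h6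
    obtain ⟨e, he⟩ : ∃ e, c = 8 * e + 2 := ⟨c / 8, by omega⟩
    rw [h5, he]
    have h7 : (8 * e + 2 + 1) ^ 2 * ((8 * e + 2) ^ 2 + (8 * e + 2) + 1) =
        8 * (512 * e ^ 4 + 704 * e ^ 3 + 368 * e ^ 2 + 87 * e + 7) + 7 := by ring
    rw [h7]
    omega
  obtain ⟨o, ho, hGo⟩ : ∃ o : ℕ, Odd o ∧ Nat.card G = 8 * o := by
    have h4 : 2 ^ (Nat.card G).factorization 2 = 8 := by
      rw [← P.card_eq_multiplicity]
      exact hP.1
    refine ⟨Nat.card G / 2 ^ (Nat.card G).factorization 2, ?_, ?_⟩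
    · rw [← Nat.not_even_iff_odd, even_iff_two_dvd]
      exact Nat.not_dvd_ordCompl Nat.prime_two Nat.card_pos.ne'
    · conv_lhs => rw [← Nat.ordProj_mul_ordCompl_eq_self (Nat.card G) 2]
      rw [h4]
  refine TwoZero.exists_div (t := h (-1)) (x := U 0 0 1) (P := P) hP.1
    (fun y hy hy1 => (hconj y).2 ⟨hy1, hP.2 y hy⟩) hidx ho hGo hx1 (fun hc => hxx ((hconj _).1 hc).2) ?_
  exact TwoZero.odd_pairs hconj hxx (odd_cent D hK) ht1 htt htx

end ree

/-- the small Ree groups: `p = 2` -/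
theorem kill_ree_two {K : Type u} [Group K] [Finite K] (h : Lie.IsoRee K) : Kill K 2 := by
  obtain ⟨F, _, _, m, hm, hK, ⟨e⟩⟩ := h
  have hfin : Finite ↥(Cfsg.Lie.twistedG2 F (3 ^ m)) := Finite.of_equiv K e.toEquiv
  have D := Cfsg.Agent.LieRecognition.ReeFinal.data hK
  have hG := Cfsg.Agent.S1116.result hK hm
  obtain ⟨χ, d, hd, hd8⟩ := ree_div D hK hG
  have Dl := ReeSetup.local_of_data D hK
  obtain ⟨P⟩ : Nonempty (Sylow 2 ↥(Cfsg.Lie.twistedG2 F (3 ^ m))) := inferInstance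
  have hP := (D.sylow_two hK Dl.card_G P).1
  have : Fact (Nat.Prime 2) := ⟨Nat.prime_two⟩
  refine Kill.mulEquiv ?_ e.symm
  refine kill_of_dvd 2 χ.2 d hd ?_
  rw [← P.card_eq_multiplicity, hP]
  exact hd8

theorem vOrdP_of_kill {K : Type u} [Group K] [Finite K] {p : ℕ} [hp : Fact p.Prime] (h : Kill K p)
    (hd : p ∣ Nat.card K) : VOrdP p K := by
  obtain ⟨x, hx⟩ := exists_prime_orderOf_dvd_card' p hd
  exact ⟨x, hx, h.vz (by rw [hx])⟩

/-- **S4559, the Suzuki groups** -/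
theorem sz_vOrdP {K : Type u} [Group K] [Finite K] {p : ℕ} [hp : Fact p.Prime] (hp2 : p ≠ 2)
    (h : Lie.IsoSuzuki K) (hd : p ∣ Nat.card K) : VOrdP p K := vOrdP_of_kill (kill_sz hp2 h) hd

/-- **S4555, the Suzuki groups** -/
theorem sz_vPow {K : Type u} [Group K] [Finite K] {p : ℕ} [hp : Fact p.Prime] (hp2 : p ≠ 2)
    (h : Lie.IsoSuzuki K) (hd : p ∣ Nat.card K) : VPow p K := (sz_vOrdP hp2 h hd).vPow

/-- the small Ree groups -/
theorem kill_ree_all {K : Type u} [Group K] [Finite K] {p : ℕ} [hp : Fact p.Prime] (hp3 : p ≠ 3)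
    (h : Lie.IsoRee K) : Kill K p := by
  have h2 := hp.out.two_le
  rcases Nat.lt_or_ge p 5 with h5 | h5
  · have h6 : p ≠ 4 := by
      rintro rfl
      exact absurd hp.out (by norm_num)
    have h7 : p = 2 := by omega
    subst h7
    exact kill_ree_two h
  · exact kill_ree h5 h

/-- **S4559, the small Ree groups** -/
theorem ree_vOrdP {K : Type u} [Group K] [Finite K] {p : ℕ} [hp : Fact p.Prime] (hp3 : p ≠ 3)
    (h : Lie.IsoRee K) (hd : p ∣ Nat.card K) : VOrdP p K := vOrdP_of_kill (kill_ree_all hp3 h) hd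

/-- **S4555, the small Ree groups** -/
theorem ree_vPow {K : Type u} [Group K] [Finite K] {p : ℕ} [hp : Fact p.Prime] (hp3 : p ≠ 3)
    (h : Lie.IsoRee K) (hd : p ∣ Nat.card K) : VPow p K := (ree_vOrdP hp3 h hd).vPow

end Cfsg.Agent.H904.SzRee
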