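import Cfsg.Agent.H904.PV.RankOne
import Cfsg.Agent.H212.U3.Model
import Cfsg.Agent.UThreeGen.DataIso
import Cfsg.Agent.H620.PNorm

/-!
# S4555 + S4559, row `PSU₃(q)`, `q > 2` (helper904)

* `vOrdP` : `p` odd dividing `q ^ 2 - 1`: an element of order `p` of `PSU₃(q)` is a `VZ` element;
* `vPow_two` : `q` odd: a `2`-element is a `VZ` element.
-/

set_option autoImplicit false

namespace Cfsg.Agent.H904.PVU

open Matrix Subgroup
open Cfsg.Agent
open Cfsg.Agent.LieRecognition.RankOneAbstract (Data)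
open Cfsg.Agent.UThreeGen.MatGroup
open Cfsg.Agent.HKS.EndU (tor tmat tor_val tor_mem act tor_emb ci ci_val wel_tor exists_tor tor_mem_center
  card_anti comm_of_a sne)
open Cfsg.Agent.H212.U3.Model
open Cfsg.Agent.UThreeGen.DataIso (mem_of_map_mem data_map)
open Cfsg.Agent.H620.PNorm (VOrdP VPow)

section Basic

variable {F : Type*} [Field F] {σ : F →+* F} [hσ : Fact (∀ x, σ (σ x) = x)]

/-- fixed points of the torus on the unipotent group -/
theorem norm_of_act {l : Fˣ} {x : HG σ} (hx : x ≠ 1) (h : act l x = x) : (l : F) * σ (l : F) = 1 := by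
  have h1 : (l : F) * σ (l : F) * x.b = x.b := congrArg HG.b h
  exact mul_right_cancel₀ (b_ne_zero hx) (h1.trans (one_mul _).symm)

/-- the matrix of an element of `SU₂` on a hyperbolic plane -/
def xmat (ε t : F) : Matrix (Fin 3) (Fin 3) F := !![0, 0, -ε; 0, 1, 0; ε⁻¹, 0, t]

/-- the element `x` -/
def xel {ε t : F} (h0 : ε ≠ 0) (hε : σ ε = -ε) (ht : σ t = t) : SUG σ :=
  ⟨⟨xmat ε t, by
    rw [Matrix.det_fin_three]
    simp [xmat, h0]⟩, by
    change (xmat ε t)ᵀ * Gm F * (xmat ε t).map σ = Gm F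
    ext i j
    fin_cases i <;> fin_cases j <;>
      simp [xmat, Gm, Matrix.mul_apply, Fin.sum_univ_three, Matrix.transpose_apply, h0, hε, ht] <;> ring⟩

omit hσ in
theorem xel_val {ε t : F} (h0 : ε ≠ 0) (hε : σ ε = -ε) (ht : σ t = t) : (xel h0 hε ht).1.1 = xmat ε t := rfl

/-- the eigenvectors -/
def pmat (ε a b : F) : Matrix (Fin 3) (Fin 3) F := !![ε, 0, ε; 0, 1, 0; -a, 0, -b]

omit hσ in
theorem det_pmat (ε a b : F) : (pmat ε a b).det = ε * (a - b) := by
  rw [Matrix.det_fin_three]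
  simp [pmat]
  ring

omit hσ in
theorem xmat_mul {ε a b : F} (h0 : ε ≠ 0) (hab : a * b = 1) :
    xmat ε (a + b) * pmat ε a b = pmat ε a b * Matrix.diagonal ![a, 1, b] := by
  ext i j
  fin_cases i <;> fin_cases j <;>
    simp [xmat, pmat, Matrix.mul_apply, Fin.sum_univ_three, h0, Matrix.diagonal] <;>
    linear_combination (-1 : F) * hab

omit hσ in
theorem xmat_pow {ε a b : F} (h0 : ε ≠ 0) (hab : a * b = 1) (hne : a ≠ b) {p : ℕ} (ha : a ^ p = 1) :
    (xmat ε (a + b)) ^ p = 1 := by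
  have hb : b ^ p = 1 := by
    have h1 : (a * b) ^ p = 1 := by rw [hab, one_pow]
    rwa [mul_pow, ha, one_mul] at h1
  have hP : IsUnit (pmat ε a b).det := by
    rw [det_pmat]
    exact (mul_ne_zero h0 (sub_ne_zero.2 hne)).isUnit
  have h1 : ∀ n : ℕ, (xmat ε (a + b)) ^ n * pmat ε a b = pmat ε a b * (Matrix.diagonal ![a, 1, b]) ^ n := by
    intro n
    induction n with
    | zero => simp
    | succ n ih =>
      rw [pow_succ, Matrix.mul_assoc, xmat_mul h0 hab, ← Matrix.mul_assoc, ih, Matrix.mul_assoc, ← pow_succ]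
  have h2 : (Matrix.diagonal ![a, 1, b] : Matrix (Fin 3) (Fin 3) F) ^ p = 1 := by
    rw [Matrix.diagonal_pow]
    have : (![a, 1, b] : Fin 3 → F) ^ p = 1 := by
      ext i
      fin_cases i <;> simp [ha, hb]
    rw [this]
    exact Matrix.diagonal_one
  have h3 := h1 p
  rw [h2, Matrix.mul_one] at h3
  have h4 : ((xmat ε (a + b)) ^ p - 1) * pmat ε a b = 0 := by
    rw [Matrix.sub_mul, h3, Matrix.one_mul, sub_self]
  have h5 : (xmat ε (a + b)) ^ p - 1 = 0 := by
    have := congrArg (fun M => M * (pmat ε a b)⁻¹) h4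
    simpa [Matrix.mul_assoc, Matrix.mul_nonsing_inv _ hP] using this
  exact sub_eq_zero.1 h5

/-- `x` has no conjugate in the Borel subgroup. -/
theorem xel_not_mem {ε a b : F} (h0 : ε ≠ 0) (hε : σ ε = -ε) (hab : a * b = 1) (hne : a ≠ b) (hσa : σ a = b)
    (ht : σ (a + b) = a + b) (g : SUG σ) : g⁻¹ * xel h0 hε ht * g ∉ borel σ := by
  intro h
  set v0 := g.1.1 0 0 with hv0
  set v1 := g.1.1 1 0 with hv1
  set v2 := g.1.1 2 0 with hv2
  -- the eigenvector equations
  set y := g⁻¹ * xel h0 hε ht * g with hy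
  set c := y.1.1 0 0 with hc
  have e : xel h0 hε ht * g = g * y := by rw [hy]; group
  have e1 : xmat ε (a + b) * g.1.1 = g.1.1 * y.1.1 := congrArg (fun k : SUG σ => k.1.1) e
  obtain ⟨hy1, hy2⟩ := h
  have c0 := congrFun (congrFun e1 0) 0
  have c1 := congrFun (congrFun e1 1) 0
  have c2 := congrFun (congrFun e1 2) 0
  rw [Matrix.mul_apply, Matrix.mul_apply, Fin.sum_univ_three, Fin.sum_univ_three, hy1, hy2] at c0 c1 c2
  simp [xmat] at c0 c1 c2
  rw [← hv0, ← hv2, ← hc] at c0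
  rw [← hv1, ← hc] at c1
  rw [← hv0, ← hv2, ← hc] at c2
  -- isotropic
  have hiso : v0 * σ v2 - v1 * σ v1 + v2 * σ v0 = 0 := by
    have h1 := entry_of_mem_SUG g.2 0 0
    have h2 : Gm F 0 0 = 0 := by simp [Gm]
    rw [h2] at h1
    exact h1
  have ha0 : a ≠ 0 := left_ne_zero_of_mul_eq_one hab
  have hb0 : b ≠ 0 := right_ne_zero_of_mul_eq_one hab
  have ha1 : a ≠ 1 := by
    rintro rfl
    rw [one_mul] at hab
    exact hne hab.symm
  have hσb : σ b = a := by rw [← hσa, sig]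
  by_cases h1 : v1 = 0
  · by_cases h2 : v2 = 0
    · -- the first column vanishes
      have h3 : v0 = 0 := by
        rw [h2, mul_zero, zero_mul, add_zero] at c2
        rcases mul_eq_zero.1 c2 with h4 | h4
        · exact absurd h4 (inv_ne_zero h0)
        · exact h4
      have hdet : g.1.1.det = 1 := g.1.2
      rw [Matrix.det_fin_three, ← hv0, ← hv1, ← hv2, h1, h2, h3] at hdet
      simp at hdet
    · have hc0 : c ≠ 0 := by
        intro h3
        rw [h3, mul_zero, neg_eq_zero] at c0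
        exact mul_ne_zero h0 h2 c0
      have hσ2 : σ v2 ≠ 0 := (map_ne_zero σ).mpr h2
      have hσc0 : σ c ≠ 0 := (map_ne_zero σ).mpr hc0
      have c0' : σ v0 * σ c = ε * σ v2 := by
        rw [← map_mul, ← c0, map_neg, map_mul, hε]
        ring
      have hσc : σ c = c := by
        have h3 : ε * (v2 * σ v2) * (c - σ c) = 0 := by
          rw [h1] at hiso
          linear_combination (c * σ c) * hiso - (σ c * σ v2) * (-c0) - (v2 * c) * c0'
        rcases mul_eq_zero.1 h3 with h4 | h4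
        · exact absurd h4 (mul_ne_zero h0 (mul_ne_zero h2 hσ2))
        · exact (sub_eq_zero.1 h4).symm
      have h5 : v2 * ((c - a) * (c - b)) = 0 := by
        have h6 : ε⁻¹ * ε = 1 := inv_mul_cancel₀ h0
        linear_combination (-c) * c2 + v2 * hab - ε⁻¹ * c0 + (-v2) * h6
      rcases mul_eq_zero.1 h5 with h6 | h6
      · exact h2 h6
      · rcases mul_eq_zero.1 h6 with h7 | h7
        · rw [sub_eq_zero.1 h7, hσa] at hσc
          exact hne hσc.symm
        · rw [sub_eq_zero.1 h7, hσb] at hσc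
          exact hne hσc
  · have hc1 : c = 1 := by
      have h2 : v1 * (c - 1) = 0 := by linear_combination -c1
      rcases mul_eq_zero.1 h2 with h3 | h3
      · exact absurd h3 h1
      · exact sub_eq_zero.1 h3
    have h2 : v2 = 0 := by
      have h6 : ε⁻¹ * ε = 1 := inv_mul_cancel₀ h0
      have h3 : (a - 1) ^ 2 * v2 = 0 := by
        rw [hc1] at c0 c2
        linear_combination a * c2 + a * ε⁻¹ * c0 + (a * v2) * h6 - v2 * hab
      rcases mul_eq_zero.1 h3 with h4 | h4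
      · exact absurd (sub_eq_zero.1 (pow_eq_zero_iff (two_ne_zero)|>.1 h4)) ha1
      · exact h4
    have h3 : v0 = 0 := by
      rw [hc1, h2, mul_zero, neg_zero, mul_one] at c0
      exact c0.symm
    rw [h2, h3] at hiso
    simp at hiso
    exact h1 hiso

end Basic

section PSU

universe u

variable {F : Type u} [Field F] [Fintype F] {q : ℕ} {σ : F →+* F} [hσ : Fact (∀ x, σ (σ x) = x)]

/-- The setting. -/
structure Setup (F : Type u) [Field F] [Fintype F] (q : ℕ) (σ : F →+* F) [hσ : Fact (∀ x, σ (σ x) = x)]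
    (π : SUG σ →* Cfsg.PSU 3 F q) : Prop where
  card : Fintype.card F = q ^ 2
  lt : 2 < q
  hs : ∀ x, σ x = x ^ q
  surj : Function.Surjective π
  ker : ∀ g, π g = 1 ↔ g ∈ Subgroup.center (SUG σ)

variable {π : SUG σ →* Cfsg.PSU 3 F q}

instance finite_PSU : Finite (Cfsg.PSU 3 F q) := Quotient.finite _

namespace Setup

variable (S : Setup F q σ π)

include S

theorem exists_ne : ∃ x : HG σ, x.a ≠ 0 := by
  obtain ⟨x, hx⟩ := exists_a (σ := σ) S.card S.hs 1
  exact ⟨x, by rw [hx]; exact one_ne_zero⟩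

theorem ker_le : π.ker ≤ borel σ := fun g hg => center_le_borel S.exists_ne ((S.ker g).mp hg)

theorem data : Data ((borel σ).map π) ((emb σ).range.map π) (π (wel σ)) := data_map data_SUG π S.surj S.ker_le

theorem inj : Function.Injective (π.comp (emb σ)) := by
  rw [injective_iff_map_eq_one]
  intro x h
  exact eq_one_of_mem_center ((S.ker _).mp h)

theorem card_U : Nat.card ((emb σ).range.map π) = q ^ 3 := by
  have hSr : (π.comp (emb σ)).range = (emb σ).range.map π := by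
    rw [MonoidHom.range_comp]
  rw [← hSr, ← card_HG S.card S.hs]
  exact (Nat.card_congr (MonoidHom.ofInjective S.inj).toEquiv).symm

theorem U_ne_bot : (emb σ).range.map π ≠ ⊥ := by
  intro h
  have h1 := S.card_U
  rw [h, Subgroup.card_bot] at h1
  have := S.lt
  have h2 : 1 < q ^ 3 := Nat.one_lt_pow (by norm_num) (by omega)
  omega

/-- `U` is a Sylow subgroup. -/
theorem exists_sylow : ∃ (r : ℕ) (_ : Fact r.Prime) (Q : Sylow r (Cfsg.PSU 3 F q)),
    (Q : Subgroup (Cfsg.PSU 3 F q)) = (emb σ).range.map π := by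
  obtain ⟨p, f, hp, hf, hq⟩ : ∃ p f : ℕ, p.Prime ∧ 1 ≤ f ∧ q = p ^ f := by
    obtain ⟨n, hp, hn⟩ := FiniteField.card F (ringChar F)
    have hd : q ∣ ringChar F ^ (n : ℕ) := by
      rw [← hn, S.card]
      exact dvd_pow_self q two_ne_zero
    obtain ⟨f, -, hq⟩ := (Nat.dvd_prime_pow hp).1 hd
    refine ⟨ringChar F, f, hp, ?_, hq⟩
    by_contra hcon
    have h0 : f = 0 := by omega
    rw [h0, pow_zero] at hq
    have := S.lt
    omega
  have := Fact.mk hp
  have hU : IsPGroup p ((emb σ).range.map π) := by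
    refine IsPGroup.of_card (n := f * 3) ?_
    rw [S.card_U, hq, ← pow_mul]
  refine ⟨p, ⟨hp⟩, hU.toSylow ?_, rfl⟩
  -- the index
  intro h
  have hpq : p ∣ q := by
    rw [hq]
    exact dvd_pow_self p (by omega)
  have h1 := (emb σ).range.card_mul_index
  have hq0 : 0 < q := by have := S.lt; omega
  rw [card_range, card_HG S.card S.hs, card_SUG S.card S.hs] at h1
  have h2 : (emb σ).range.index = (q ^ 3 + 1) * (q ^ 2 - 1) := by
    refine Nat.eq_of_mul_eq_mul_left (pow_pos hq0 3) (h1.trans ?_)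
    ring
  have h3 : ((emb σ).range.map π).index ∣ (emb σ).range.index := Subgroup.index_map_dvd _ S.surj
  have h4 := h.trans h3
  rw [h2, hp.dvd_mul] at h4
  rcases h4 with h4 | h4
  · have h5 : p ∣ q ^ 3 := dvd_pow hpq (by norm_num)
    have h6 := (Nat.dvd_add_right h5).1 h4
    exact hp.one_lt.ne' (Nat.dvd_one.1 h6)
  · have h5 : p ∣ q ^ 2 := dvd_pow hpq (by norm_num)
    have h6 : 1 ≤ q ^ 2 := Nat.one_le_pow _ _ hq0
    have h7 : p ∣ q ^ 2 - (q ^ 2 - 1) := Nat.dvd_sub h5 h4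
    rw [Nat.sub_sub_self h6] at h7
    exact hp.one_lt.ne' (Nat.dvd_one.1 h7)

/-- fixed points of the elements of the torus -/
theorem act_eq {l : Fˣ} {x : HG σ} (h : π (tor σ l) * π (emb σ x) = π (emb σ x) * π (tor σ l)) : act l x = x := by
  have h1 : π (tor σ l * emb σ x * (emb σ x * tor σ l)⁻¹) = 1 := by
    rw [map_mul, map_inv, map_mul, map_mul, h, mul_inv_cancel]
  have h2 : tor σ l * emb σ x * (emb σ x * tor σ l)⁻¹ = emb σ (act l x * x⁻¹) := by
    rw [tor_emb, map_mul, map_inv]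
    group
  rw [h2, S.ker] at h1
  exact mul_inv_eq_one.1 (eq_one_of_mem_center h1)

theorem reg {l : Fˣ} (hl : (l : F) * σ (l : F) ≠ 1) :
    ∀ u ∈ (emb σ).range.map π, π (tor σ l) * u = u * π (tor σ l) → u = 1 := by
  rintro _ ⟨_, ⟨x, rfl⟩, rfl⟩ h
  by_contra hne
  have hx : x ≠ 1 := by
    rintro rfl
    exact hne (by rw [map_one, map_one])
  exact hl (norm_of_act hx (S.act_eq h))

theorem tor_ne {l : Fˣ} (hl : (l : F) * σ (l : F) ≠ 1) : π (tor σ l) ≠ 1 := by
  intro h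
  obtain ⟨u, hu, hu1⟩ := (Subgroup.bot_or_exists_ne_one _).resolve_left S.U_ne_bot
  exact hu1 (S.reg hl u hu (by rw [h, one_mul, mul_one]))

/-- commutativity modulo `U` -/
theorem hab : ∀ h ∈ (borel σ).map π, ∀ k ∈ (borel σ).map π, ∃ u ∈ (emb σ).range.map π, h * k = k * h * u := by
  rintro _ ⟨h, hh, rfl⟩ _ ⟨k, hk, rfl⟩
  refine ⟨π ((k * h)⁻¹ * (h * k)), ⟨_, ?_, rfl⟩, ?_⟩
  · have hm : (k * h)⁻¹ * (h * k) ∈ borel σ :=
      (borel σ).mul_mem ((borel σ).inv_mem ((borel σ).mul_mem hk hh)) ((borel σ).mul_mem hh hk)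
    have h1 : chi σ ⟨(k * h)⁻¹ * (h * k), hm⟩ = 1 := by
      have : (⟨(k * h)⁻¹ * (h * k), hm⟩ : borel σ) = (⟨k, hk⟩ * ⟨h, hh⟩)⁻¹ * (⟨h, hh⟩ * ⟨k, hk⟩) := rfl
      rw [this, map_mul, map_inv, map_mul, map_mul, mul_comm (chi σ ⟨k, hk⟩), inv_mul_cancel]
    exact chi_eq_one.1 h1
  · rw [← map_mul, ← map_mul, ← map_mul]
    congr 1
    group

theorem exists_unit : ∃ l : Fˣ, (l : F) * σ (l : F) ≠ 1 := by
  obtain ⟨a, ha⟩ := IsCyclic.exists_generator (α := Fˣ)
  refine ⟨a, fun h => ?_⟩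
  rw [S.hs] at h
  have h1 : a ^ (q + 1) = 1 := by
    apply Units.ext
    rw [Units.val_pow_eq_pow_val, pow_succ', Units.val_one]
    exact h
  have h2 := orderOf_dvd_of_pow_eq_one h1
  rw [orderOf_eq_card_of_forall_mem_zpowers ha, card_units S.card] at h2
  have h3 := Nat.le_of_dvd (by omega) h2
  have := S.lt
  have h4 : 3 * q ≤ q ^ 2 := by nlinarith
  omega

theorem tor_mem' (l : Fˣ) : π (tor σ l) ∈ (borel σ).map π := ⟨_, tor_mem l, rfl⟩

theorem w_tor (l : Fˣ) : π (wel σ) * π (tor σ l) * (π (wel σ))⁻¹ = π (tor σ (ci σ l)) := by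
  rw [← map_inv, ← map_mul, ← map_mul, wel_inv, wel_tor]

theorem w_ne {l : Fˣ} (hl : (l : F) * σ (l : F) ≠ 1) :
    (π (wel σ) * π (tor σ l) * (π (wel σ))⁻¹) * (π (tor σ l))⁻¹ ∉ (emb σ).range.map π := by
  rw [S.w_tor, ← map_inv, ← map_mul, ← map_inv, ← map_mul]
  intro hU
  set b : Fˣ := ci σ l * l⁻¹ with hb
  have h1 : π (tor σ b) = 1 := by
    refine S.data.inter _ hU ⟨tor σ (ci σ b), tor_mem _, ?_⟩
    rw [← wel_tor, map_mul, map_mul, ← map_inv, wel_inv]
  obtain ⟨x, hx⟩ := exists_a (σ := σ) S.card S.hs 1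
  have h2 : act b x = x := S.act_eq (by rw [h1, one_mul, mul_one])
  have h3 : (b : F) ^ 2 / σ (b : F) * x.a = x.a := congrArg HG.a h2
  rw [hx, mul_one, div_eq_one_iff_eq (sne b)] at h3
  have hbv : (b : F) * ((l : F) * σ (l : F)) = 1 := by
    have hl0 : (l : F) ≠ 0 := l.ne_zero
    have hl1 := sne (σ := σ) l
    rw [hb, Units.val_mul, ci_val, Units.val_inv_eq_inv_val]
    field_simp
  have hσb : σ (b : F) = b := by
    have h4 : σ (b : F) * ((l : F) * σ (l : F)) = 1 := by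
      have := congrArg σ hbv
      rw [map_mul, map_mul, sig, map_one] at this
      rw [mul_comm (l : F)]
      exact this
    have h5 : (l : F) * σ (l : F) ≠ 0 := right_ne_zero_of_mul_eq_one h4
    exact mul_right_cancel₀ h5 (h4.trans hbv.symm)
  rw [hσb] at h3
  have h4 : (b : F) = 1 := by
    have h5 : (b : F) * ((b : F) - 1) = 0 := by linear_combination h3
    rcases mul_eq_zero.1 h5 with h6 | h6
    · exact absurd h6 b.ne_zero
    · exact sub_eq_zero.1 h6
  rw [h4, one_mul] at hbv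
  exact hl hbv

theorem card_lt : Nat.card ((borel σ).map π) <
    Nat.card ((emb σ).range.map π) * (Nat.card ((emb σ).range.map π) + 1) := by
  have h1 : Nat.card ((borel σ).map π) ≤ Nat.card (borel σ) :=
    Nat.card_le_card_of_surjective (fun g : borel σ => (⟨π g, ⟨g, g.2, rfl⟩⟩ : (borel σ).map π)) (by
      rintro ⟨_, ⟨g, hg, rfl⟩⟩
      exact ⟨⟨g, hg⟩, rfl⟩)
  rw [card_borel S.card S.hs] at h1
  rw [S.card_U]
  have := S.lt
  have h2 : 0 < q ^ 3 := pow_pos (by omega) 3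
  have h3 : q ^ 2 ≤ q ^ 3 := Nat.pow_le_pow_right (by omega) (by norm_num)
  have h4 : q ^ 2 - 1 < q ^ 3 + 1 := by omega
  exact lt_of_le_of_lt h1 (Nat.mul_lt_mul_of_pos_left h4 h2)

/-- **Elements of the torus.** -/
theorem vz_tor {l : Fˣ} (hl : (l : F) * σ (l : F) ≠ 1) : H713.VZ (Cfsg.PSU 3 F q) (π (tor σ l)) := by
  classical
  obtain ⟨r, hr, Q, hQ⟩ := S.exists_sylow
  have := Fintype.ofFinite ((emb σ).range.map π)
  obtain ⟨χ, hχ⟩ := Cfsg.Agent.H710.Cuspidal.exists_cuspidal S.data S.hab (S.tor_mem' l)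
    (by rw [S.w_tor]; exact S.tor_mem' _) (S.w_ne hl) S.card_lt
  refine Cfsg.Agent.H904.PV.vz_of_sum Q hQ hχ (fun u => ?_) (S.reg hl)
  constructor
  · exact S.data.norm _ (S.tor_mem' l) u
  · intro hu
    have := S.data.norm _ (Subgroup.inv_mem _ (S.tor_mem' l)) _ hu
    have e : (π (tor σ l))⁻¹ * (π (tor σ l) * u * (π (tor σ l))⁻¹) * ((π (tor σ l))⁻¹)⁻¹ = u := by group
    rwa [e] at this

/-- **Elements without isotropic eigenvectors.** -/
theorem vz_of_not_mem {x : SUG σ} (hx : ∀ g : SUG σ, g⁻¹ * x * g ∉ borel σ) :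
    H713.VZ (Cfsg.PSU 3 F q) (π x) ∧ π x ≠ 1 := by
  have h1 : ∀ g : Cfsg.PSU 3 F q, g⁻¹ * π x * g ∉ (borel σ).map π := by
    intro g hg
    obtain ⟨g, rfl⟩ := S.surj g
    rw [← map_inv, ← map_mul, ← map_mul] at hg
    exact hx g (mem_of_map_mem π S.ker_le hg)
  obtain ⟨r, hr, Q, hQ⟩ := S.exists_sylow
  obtain ⟨l, hl⟩ := S.exists_unit
  refine ⟨Cfsg.Agent.H904.PV.vz_of_no_conj S.data Q hQ S.U_ne_bot S.hab (S.tor_mem' l)
    (by rw [S.w_tor]; exact S.tor_mem' _) (S.w_ne hl) h1, fun h => ?_⟩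
  apply h1 1
  rw [h, inv_one, mul_one, mul_one]
  exact Subgroup.one_mem _

end Setup

theorem exists_setup (hF : Fintype.card F = q ^ 2) (hq : 2 < q) :
    ∃ (σ : F →+* F) (_ : Fact (∀ x, σ (σ x) = x)) (π : SUG σ →* Cfsg.PSU 3 F q), Setup F q σ π := by
  let σ : F →+* F := (Cfsg.Agent.LieClassical.HermBasic.conj hF : F →+* F)
  have hs : ∀ x, σ x = x ^ q := fun x => rfl
  have hσ : Fact (∀ x, σ (σ x) = x) := ⟨fun x => Cfsg.Agent.LieClassical.HermBasic.pow_q_pow_q hF x⟩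
  obtain ⟨π, h1, h2⟩ := exists_pi (σ := σ) (q := q) (by omega) hs (by rw [Nat.card_eq_fintype_card, hF])
  exact ⟨σ, hσ, π, hF, hq, hs, h1, h2⟩

/-- an element of prime order of the multiplicative group -/
theorem exists_order (hF : Fintype.card F = q ^ 2) {n : ℕ} (hn : n ∣ q ^ 2 - 1) : ∃ a : Fˣ, orderOf a = n := by
  obtain ⟨g, hg⟩ := IsCyclic.exists_generator (α := Fˣ)
  have h1 : orderOf g = q ^ 2 - 1 := by rw [orderOf_eq_card_of_forall_mem_zpowers hg, card_units hF]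
  obtain ⟨m, hm⟩ := hn
  have h0 : 0 < orderOf g := orderOf_pos g
  have hm0 : m ≠ 0 := by
    rintro rfl
    rw [mul_zero] at hm
    omega
  refine ⟨g ^ m, ?_⟩
  rw [orderOf_pow, h1, hm, Nat.gcd_eq_right (Dvd.intro_left n rfl), Nat.mul_div_cancel _ (by omega)]

/-- **Row `PSU₃(q)`, `p` odd.** -/
theorem vOrdP (hF : Fintype.card F = q ^ 2) (hq : 2 < q) {p : ℕ} (hp : p.Prime) (hp2 : p ≠ 2)
    (hd : p ∣ q ^ 2 - 1) : VOrdP p (Cfsg.PSU 3 F q) := by
  obtain ⟨σ, hσ, π, S⟩ := exists_setup hF hq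
  obtain ⟨a, ha⟩ := exists_order hF hd
  have hap : a ^ p = 1 := by rw [← ha]; exact pow_orderOf_eq_one a
  have ha2 : a ^ 2 ≠ 1 := by
    intro h
    have h1 := orderOf_dvd_of_pow_eq_one h
    rw [ha] at h1
    exact hp2 ((Nat.prime_dvd_prime_iff_eq hp Nat.prime_two).1 h1)
  have hqq : q ^ 2 - 1 = (q + 1) * (q - 1) := by
    have := Nat.sq_sub_sq q 1
    rwa [one_pow] at this
  by_cases hd1 : p ∣ q + 1
  · -- no eigenvectors
    obtain ⟨ε', hε'⟩ := Cfsg.Agent.LieClassical.HermBasic.exists_not_fixed hF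
    set ε : F := ε' - σ ε' with hε
    have h0 : ε ≠ 0 := by
      rw [hε, sub_ne_zero, S.hs]
      exact hε'.symm
    have hσε : σ ε = -ε := by
      rw [hε, map_sub, hσ.out]
      ring
    have hσa : σ (a : F) = ((a⁻¹ : Fˣ) : F) := by
      have h1 : a ^ (q + 1) = 1 := by
        obtain ⟨k, hk⟩ := hd1
        rw [hk, pow_mul, hap, one_pow]
      have h2 : a ^ q = a⁻¹ := by
        rw [eq_inv_iff_mul_eq_one, ← pow_succ, h1]
      rw [S.hs, ← Units.val_pow_eq_pow_val, h2]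
    have hab : (a : F) * ((a⁻¹ : Fˣ) : F) = 1 := Units.mul_inv a
    have hne : (a : F) ≠ ((a⁻¹ : Fˣ) : F) := by
      intro h
      apply ha2
      have h1 : a = a⁻¹ := Units.ext h
      rw [pow_two]
      nth_rewrite 2 [h1]
      exact mul_inv_cancel a
    have ht : σ ((a : F) + ((a⁻¹ : Fˣ) : F)) = (a : F) + ((a⁻¹ : Fˣ) : F) := by
      rw [map_add, hσa, ← hσa, hσ.out, hσa, add_comm]
    obtain ⟨h1, h2⟩ := S.vz_of_not_mem (x := xel h0 hσε ht) (xel_not_mem h0 hσε hab hne hσa ht)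
    refine ⟨_, ?_, h1⟩
    have := Fact.mk hp
    refine orderOf_eq_prime ?_ h2
    rw [← map_pow]
    have h3 : (xel h0 hσε ht) ^ p = 1 := by
      apply Subtype.ext
      apply Subtype.ext
      have h4 : ∀ n : ℕ, ((xel h0 hσε ht) ^ n).1.1 = (xmat ε ((a : F) + ((a⁻¹ : Fˣ) : F))) ^ n := by
        intro n
        induction n with
        | zero => simp
        | succ n ih => rw [pow_succ, coe_mul_SUG, ih, pow_succ, xel_val]
      rw [h4, xmat_pow h0 hab hne (by rw [← Units.val_pow_eq_pow_val, hap, Units.val_one])]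
      simp
    rw [h3, map_one]
  · -- an element of the torus
    have hd2 : p ∣ q - 1 := by
      rw [hqq, hp.dvd_mul] at hd
      exact hd.resolve_left hd1
    have hl : (a : F) * σ (a : F) ≠ 1 := by
      intro h
      rw [S.hs] at h
      have h1 : a ^ (q + 1) = 1 := by
        apply Units.ext
        rw [Units.val_pow_eq_pow_val, pow_succ', Units.val_one]
        exact h
      have h2 := orderOf_dvd_of_pow_eq_one h1
      rw [ha] at h2
      exact hd1 h2
    refine ⟨π (tor σ a), ?_, S.vz_tor hl⟩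
    have := Fact.mk hp
    refine orderOf_eq_prime ?_ (S.tor_ne hl)
    rw [← map_pow, ← map_pow, hap, map_one, map_one]

/-- **Row `PSU₃(q)`, `p = 2`.** -/
theorem vPow_two (hF : Fintype.card F = q ^ 2) (hq : 2 < q) (hodd : Odd q) : VPow 2 (Cfsg.PSU 3 F q) := by
  obtain ⟨σ, hσ, π, S⟩ := exists_setup hF hq
  have hqq : q ^ 2 - 1 = (q + 1) * (q - 1) := by
    have := Nat.sq_sub_sq q 1
    rwa [one_pow] at this
  have hq0 : q ^ 2 - 1 ≠ 0 := by
    rw [hqq]
    exact Nat.mul_ne_zero (by omega) (by omega)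
  obtain ⟨a, ha⟩ := exists_order hF (Nat.ordProj_dvd (q ^ 2 - 1) 2)
  have hl : (a : F) * σ (a : F) ≠ 1 := by
    intro h
    rw [S.hs] at h
    have h1 : a ^ (q + 1) = 1 := by
      apply Units.ext
      rw [Units.val_pow_eq_pow_val, pow_succ', Units.val_one]
      exact h
    have h2 := orderOf_dvd_of_pow_eq_one h1
    rw [ha] at h2
    have h3 := (Nat.prime_two.pow_dvd_iff_le_factorization (by omega)).1 h2
    rw [hqq, Nat.factorization_mul (by omega) (by omega), Finsupp.add_apply] at h3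
    have h4 : 0 < (q - 1).factorization 2 := by
      obtain ⟨k, hk⟩ := hodd
      exact Nat.prime_two.factorization_pos_of_dvd (by omega) ⟨k, by omega⟩
    omega
  refine ⟨π (tor σ a), ?_, S.vz_tor hl⟩
  have h1 : (π (tor σ a)) ^ (2 ^ (q ^ 2 - 1).factorization 2) = 1 := by
    rw [← map_pow, ← map_pow, ← ha, pow_orderOf_eq_one, map_one, map_one]
  obtain ⟨j, -, hj⟩ := (Nat.dvd_prime_pow Nat.prime_two).1 (orderOf_dvd_of_pow_eq_one h1)
  exact ⟨j, hj⟩

end PSU

end Cfsg.Agent.H904.PVU
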