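import Cfsg.Agent.H710.Cuspidal
import Cfsg.Agent.H713.Engine

/-!
# Zeros of characters of strongly split rank one groups (helper904)

* `vz_of_sum` : `U` a Sylow `r`-subgroup, `χ` without `U`-fixed vectors: every `x` normalising `U` without nontrivial
  fixed points on `U` is a `VZ` element;
* `exists_ind` : an irreducible character induced from a linear character of the Borel subgroup;
* `vz_of_no_conj` : the elements without conjugates in the Borel subgroup are `VZ` elements.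
-/

set_option autoImplicit false

open scoped Pointwise

namespace Cfsg.Agent.H904.PV

open Cfsg Cfsg.Agent.Characters Cfsg.Agent.LieRecognition.RankOneAbstract Cfsg.Agent.H710.Cuspidal

/-- the image of a Sylow subgroup under an automorphism -/
theorem exists_conj {K : Type*} [Group K] [Finite K] {r : ℕ} [hr : Fact r.Prime] {U : Subgroup K}
    (Q : Sylow r K) (hQ : (Q : Subgroup K) = U) (α : MulAut K) :
    ∃ g : K, ∀ y : K, y ∈ U ↔ α.symm (g * y * g⁻¹) ∈ U := by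
  obtain ⟨g, hg⟩ := MulAction.exists_smul_eq K Q (α • Q)
  refine ⟨g, ?_⟩
  intro y
  have h1 : (g * y * g⁻¹) ∈ ((g • Q : Sylow r K) : Subgroup K) ↔ y ∈ (Q : Subgroup K) := by
    rw [Sylow.coe_subgroup_smul]
    constructor
    · intro hy
      rw [Subgroup.mem_pointwise_smul_iff_inv_smul_mem] at hy
      simpa [mul_assoc] using hy
    · intro hy
      rw [Subgroup.mem_pointwise_smul_iff_inv_smul_mem]
      simpa [mul_assoc] using hy
  have h2 : (g * y * g⁻¹) ∈ ((α • Q : Sylow r K) : Subgroup K) ↔ α.symm (g * y * g⁻¹) ∈ (Q : Subgroup K) := by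
    rw [Sylow.pointwise_smul_def, Subgroup.mem_pointwise_smul_iff_inv_smul_mem]
    rfl
  rw [← hQ, ← h1, hg, h2]

/-- An element normalising the Sylow subgroup `U` without nontrivial fixed points on `U` is a `VZ` element. -/
theorem vz_of_sum {K : Type*} [Group K] [Finite K] {r : ℕ} [hr : Fact r.Prime] {U : Subgroup K} [Fintype U]
    (Q : Sylow r K) (hQ : (Q : Subgroup K) = U) {χ : IrrCharacter K} (hχ : ∑ u : U, (χ : K → ℂ) u = 0) {x : K}
    (hx : ∀ u, u ∈ U ↔ x * u * x⁻¹ ∈ U) (hreg : ∀ u ∈ U, x * u = u * x → u = 1) : H713.VZ K x := by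
  classical
  refine ⟨χ, fun α => ?_⟩
  obtain ⟨g, hmem⟩ := exists_conj Q hQ α
  -- move to `g⁻¹ α(x) g`
  have hcl : (χ : K → ℂ) (α x) = (χ : K → ℂ) (g⁻¹ * α x * g) := by
    have := Core.isIrr_isClassFunction χ.2 (α x) g⁻¹
    rw [inv_inv] at this
    exact this.symm
  rw [hcl]
  obtain ⟨n, ρ, hρ, h⟩ := χ.2
  rw [← h] at hχ ⊢
  refine zero_of_regular ρ U hχ (fun u => ?_) fun u hu hc => ?_
  · rw [hmem u, hmem (g⁻¹ * α x * g * u * (g⁻¹ * α x * g)⁻¹), hx]
    have e : α.symm (g * (g⁻¹ * α x * g * u * (g⁻¹ * α x * g)⁻¹) * g⁻¹) =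
        x * α.symm (g * u * g⁻¹) * x⁻¹ := by
      have e1 : g * (g⁻¹ * α x * g * u * (g⁻¹ * α x * g)⁻¹) * g⁻¹ = α x * (g * u * g⁻¹) * (α x)⁻¹ := by group
      rw [e1, map_mul, map_mul, map_inv, MulEquiv.symm_apply_apply]
    rw [e]
  · have h1 := hreg _ ((hmem u).1 hu) (by
      have e1 : α x * (g * u * g⁻¹) = (g * u * g⁻¹) * α x := by
        have h2 : g * (g⁻¹ * α x * g * u) * g⁻¹ = g * (u * (g⁻¹ * α x * g)) * g⁻¹ := by rw [hc]
        calc α x * (g * u * g⁻¹) = g * (g⁻¹ * α x * g * u) * g⁻¹ := by group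
          _ = g * (u * (g⁻¹ * α x * g)) * g⁻¹ := h2
          _ = (g * u * g⁻¹) * α x := by group
      have h3 := congrArg α.symm e1
      rw [map_mul, map_mul α.symm (g * u * g⁻¹), MulEquiv.symm_apply_apply] at h3
      exact h3)
    have h2 : g * u * g⁻¹ = 1 := by
      have := congrArg α h1
      rwa [MulEquiv.apply_symm_apply, map_one] at this
    have h3 : u = g⁻¹ * (g * u * g⁻¹) * g := by group
    rw [h3, h2]; group

variable {G : Type*} [Group G] [Finite G] {H U : Subgroup G} {w : G}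

/-- **An irreducible character induced from the Borel subgroup.** -/
theorem exists_ind (D : Data H U w) (hab : ∀ h ∈ H, ∀ k ∈ H, ∃ u ∈ U, h * k = k * h * u) {d : G} (hd : d ∈ H)
    (hdw : w * d * w⁻¹ ∈ H) (hne : (w * d * w⁻¹) * d⁻¹ ∉ U) :
    ∃ χ : IrrCharacter G, ∀ x : G, (∀ g : G, g⁻¹ * x * g ∉ H) → (χ : G → ℂ) x = 0 := by
  classical
  have := Fintype.ofFinite G
  -- the linear character
  let K : Subgroup H := U.subgroupOf H
  have hK : K.Normal := by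
    constructor
    intro n hn g
    rw [Subgroup.mem_subgroupOf] at hn ⊢
    exact D.norm g g.2 n hn
  have hcomm : ∀ a b : H, (QuotientGroup.mk' K a) * (QuotientGroup.mk' K b) =
      (QuotientGroup.mk' K b) * (QuotientGroup.mk' K a) := by
    intro a b
    obtain ⟨u, hu, h⟩ := hab a a.2 b b.2
    rw [← map_mul, ← map_mul, eq_comm, QuotientGroup.mk'_eq_mk']
    exact ⟨⟨u, D.le hu⟩, by rw [Subgroup.mem_subgroupOf]; exact hu, Subtype.ext h.symm⟩
  let _ : CommGroup (H ⧸ K) := { (inferInstance : Group (H ⧸ K)) with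
    mul_comm := by
      intro a b
      obtain ⟨a, rfl⟩ := QuotientGroup.mk'_surjective K a
      obtain ⟨b, rfl⟩ := QuotientGroup.mk'_surjective K b
      exact hcomm a b }
  have hdA : QuotientGroup.mk' K (⟨w * d * w⁻¹, hdw⟩ * ⟨d, hd⟩⁻¹) ≠ 1 := by
    intro h0
    rw [QuotientGroup.mk'_apply, QuotientGroup.eq_one_iff, Subgroup.mem_subgroupOf] at h0
    exact hne h0
  obtain ⟨φ, hφ⟩ := CommGroup.exists_apply_ne_one_of_hasEnoughRootsOfUnity (H ⧸ K) ℂ hdA
  set f : H →* ℂˣ := φ.comp (QuotientGroup.mk' K) with hf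
  have hfne : f ⟨w * d * w⁻¹, hdw⟩ ≠ f ⟨d, hd⟩ := by
    intro h
    apply hφ
    have h1 : f (⟨w * d * w⁻¹, hdw⟩ * ⟨d, hd⟩⁻¹) = 1 := by
      rw [map_mul, map_inv, h, mul_inv_cancel]
    exact h1
  set χ₀ : G → ℂ := indFun H (fun t => (f t : ℂ)) with hχ₀
  have hirr : IsIrrCharacter G χ₀ := by
    apply Cfsg.Agent.CharactersDeep.MackeyLinear.isIrrCharacter_indFun
    intro x hx
    obtain ⟨s, hs, hsx⟩ := D.bruhat x hx
    set k := (s * w)⁻¹ * x with hk
    have hxe : x = s * w * k := by rw [hk]; group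
    have hsH : s ∈ H := D.le hs
    refine ⟨⟨s, hsH⟩ * ⟨w * d * w⁻¹, hdw⟩ * ⟨s, hsH⟩⁻¹, ?_, ?_⟩
    · have h1 : x⁻¹ * ((⟨s, hsH⟩ * ⟨w * d * w⁻¹, hdw⟩ * ⟨s, hsH⟩⁻¹ : H) : G) * x =
          k⁻¹ * d * k := by
        rw [hxe]
        simp only [Subgroup.coe_mul, InvMemClass.coe_inv]
        group
      rw [h1]
      exact H.mul_mem (H.mul_mem (H.inv_mem hsx) hd) hsx
    · have h1 : f (⟨s, hsH⟩ * ⟨w * d * w⁻¹, hdw⟩ * ⟨s, hsH⟩⁻¹) = f ⟨w * d * w⁻¹, hdw⟩ := by
        rw [map_mul, map_mul, map_inv, mul_comm (f ⟨s, hsH⟩), mul_inv_cancel_right]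
      rw [h1]
      have h2 : ∀ (hh : x⁻¹ * ((⟨s, hsH⟩ * ⟨w * d * w⁻¹, hdw⟩ * ⟨s, hsH⟩⁻¹ : H) : G) * x ∈ H),
          (⟨_, hh⟩ : H) = ⟨k, hsx⟩⁻¹ * ⟨d, hd⟩ * ⟨k, hsx⟩ := by
        intro hh
        apply Subtype.ext
        simp only [Subgroup.coe_mul, InvMemClass.coe_inv]
        rw [hxe]
        group
      rw [h2, map_mul, map_mul, map_inv, mul_comm (f ⟨k, hsx⟩)⁻¹, inv_mul_cancel_right]
      exact hfne
  refine ⟨⟨χ₀, hirr⟩, fun x hx => ?_⟩
  change χ₀ x = 0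
  rw [hχ₀, Cfsg.Agent.OddOrderCharacters.Clifford.indFun_apply]
  rw [Finset.sum_eq_zero fun g _ => Cfsg.Agent.OddOrderCharacters.Clifford.ext_apply_not_mem H _ _ (hx g), mul_zero]

omit [Finite G] in
/-- the Borel subgroup is the normaliser of `U` -/
theorem mem_iff_norm (D : Data H U w) (hU : U ≠ ⊥) (x : G) : x ∈ H ↔ ∀ u ∈ U, x * u * x⁻¹ ∈ U := by
  constructor
  · intro hx u hu
    exact D.norm x hx u hu
  · intro h
    obtain ⟨u, hu, hu1⟩ := (Subgroup.bot_or_exists_ne_one U).resolve_left hU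
    have h1 : x⁻¹ ∈ H := mem_of_conj D hu hu1 (by rw [inv_inv]; exact D.le (h u hu))
    have := H.inv_mem h1
    rwa [inv_inv] at this

/-- **The elements without conjugates in the Borel subgroup are `VZ` elements.** -/
theorem vz_of_no_conj (D : Data H U w) {r : ℕ} [hr : Fact r.Prime] (Q : Sylow r G) (hQ : (Q : Subgroup G) = U)
    (hU : U ≠ ⊥) (hab : ∀ h ∈ H, ∀ k ∈ H, ∃ u ∈ U, h * k = k * h * u) {d : G} (hd : d ∈ H)
    (hdw : w * d * w⁻¹ ∈ H) (hne : (w * d * w⁻¹) * d⁻¹ ∉ U) {x : G} (hx : ∀ g : G, g⁻¹ * x * g ∉ H) :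
    H713.VZ G x := by
  obtain ⟨χ, hχ⟩ := exists_ind D hab hd hdw hne
  refine ⟨χ, fun α => hχ _ fun k hk => ?_⟩
  obtain ⟨g, hmem⟩ := exists_conj Q hQ α
  -- `k⁻¹ α(x) k` normalises `U`
  apply hx (α.symm (k * g⁻¹))
  rw [mem_iff_norm D hU] at hk ⊢
  intro u hu
  -- `u = α⁻¹ (g y g⁻¹)`
  have h1 : g⁻¹ * α u * g ∈ U := by
    rw [hmem]
    have e : g * (g⁻¹ * α u * g) * g⁻¹ = α u := by group
    rw [e, MulEquiv.symm_apply_apply]
    exact hu
  have h2 := (hmem _).1 (hk _ h1)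
  have e : g * (k⁻¹ * α x * k * (g⁻¹ * α u * g) * (k⁻¹ * α x * k)⁻¹) * g⁻¹ =
      (k * g⁻¹)⁻¹ * α x * (k * g⁻¹) * α u * ((k * g⁻¹)⁻¹ * α x * (k * g⁻¹))⁻¹ := by group
  rw [e] at h2
  simpa only [map_mul, map_inv, MulEquiv.symm_apply_apply] using h2

end Cfsg.Agent.H904.PV
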